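import Cfsg.Agent.Lib.Grp.TD4.Main
import Cfsg.Agent.Lib.DC.Tha.C0

set_option autoImplicit false
set_option maxRecDepth 100000
set_option Elab.async false
set_option linter.unusedSectionVars false

namespace Cfsg.Agent.DC.Tha
open Cfsg.Agent.CG

variable [_root_.Fact (Bounds CG.TD4.tcR CG.TD4.tcS 634023936)] {Γ : Type*} [Group Γ] {f : CG.TD4.PG →* Γ} {τ z : ℕ → Γ} {L : Subgroup Γ}

theorem hiv : ∀ a, CG.TD4.act.gen (iv a) = (CG.TD4.act.gen a)⁻¹ := fun a =>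
  (congrArg CG.TD4.act.gen (ivX_eq c0 c1 a)).trans (CG.TD4.hinv a)

theorem h256 : ∀ a, a < 256 → iv a < 256 := fun a ha => (blt_iff _ _).1 ((allLt_iff _ _).1 c2 a ha)

theorem all : allRange (chk CG.TD4.app iv CG.TD4.bs true facts nd rules) 0 97 = true :=
  c4

theorem sem (hz : ∀ i, z i ∈ Subgroup.center Γ) (hrel : ∀ r ∈ rels, ev (tokv CG.TD4.act.gen f τ) r.1 = zv z r.2) :
    ∀ j, j < 97 → Sem CG.TD4.act true facts nd rules f τ z L (facts.get j) :=
  sound (env_of_chk (lrels := lrels) (idx := idx) CG.TD4.base hiv hz (rels01 hrel) (by simp) (by simp) c2 c3) all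

theorem exp (hz : ∀ i, z i ∈ Subgroup.center Γ) (hrel : ∀ r ∈ rels, ev (tokv CG.TD4.act.gen f τ) r.1 = zv z r.2) :
    ∀ r ∈ xs.map Prod.snd, ev (tokv CG.TD4.act.gen f τ) r.1 = zv z r.2 :=
  exported hz (rels01 hrel) (sem (L := ⊤) hz hrel) c5


end Cfsg.Agent.DC.Tha
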