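import Cfsg.Agent.Lib.DC.Glue

set_option autoImplicit false
set_option maxRecDepth 100000
set_option Elab.async false
set_option linter.unusedSectionVars false

namespace Cfsg.Agent.DC.Tha
open Cfsg.Agent.CG

noncomputable def facts : Tr Fact := (.node (.node (.node (.node (.node (.node (.node (.leaf (Fact.mk (nat_lit 8) (nat_lit 0x1) (nat_lit 0x1) (nat_lit 0x1) (nat_lit 0x1) [])) (.leaf (Fact.mk (nat_lit 18014399583272976) (nat_lit 0x107160b05) (nat_lit 0x11c1d021908191c0b05) (nat_lit 0x1040705) (nat_lit 0x100000040000000230000003000000002000000090000004200000008) []))) (.node (.leaf (Fact.mk (nat_lit 18014398777954320) (nat_lit 0x1000306) (nat_lit 0x1) (nat_lit 0x102040816) (nat_lit 0x10000003e0000002300000027000000230000001b) [])) (.leaf (Fact.mk (nat_lit 69635) (nat_lit 0x1) (nat_lit 0x1) (nat_lit 0x1) (nat_lit 0x100000028000000b800000012000000be) [])))) (.node (.node (.leaf (Fact.mk (nat_lit 8) (nat_lit 0x108) (nat_lit 0x1) (nat_lit 0x108) (nat_lit 0x1) [])) (.leaf (Fact.mk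 (nat_lit 9007200060076032) (nat_lit 0x1) (nat_lit 0x104081a0703) (nat_lit 0x11c001a131b040b) (nat_lit 0x10000009e) []))) (.leaf (Fact.mk (nat_lit 18014399314833424) (nat_lit 0x10203) (nat_lit 0x1140f) (nat_lit 0x10204080508) (nat_lit 0x1000000400000002300000026000000220000003000000002000000060000003c00000004) [])))) (.node (.node (.node (.leaf (Fact.mk (nat_lit 21) (nat_lit 0x1020816) (nat_lit 0x1021607) (nat_lit 0x1) (nat_lit 0x1000000090000000f0000000500000003) [])) (.leaf (Fact.mk (nat_lit 9007200328515600) (nat_lit 0x11c191b071b060d11) (nat_lit 0x11b081d0415) (nat_lit 0x100020306) (nat_lit 0x1000000880000000e0000008200000002000000090000000a) []))) (.leaf (Fact.mk (nat_lit 4503600164286480) (nat_lit 0x10203) (nat_lit 0x1140f) (nat_lit 0x1000403) (nat_lit 0x1000000120000004e0000002800000002000000060000003600000004) []))) (.node (.node (.leaf (Fact.mk (nat_lit 4503599895830544) (nat_lit 0x106) (nat_lit 0x1000205) (nat_lit 0x105) (nat_lit 0x10000002e) [])) (.leaf (Fact.mk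 (nat_lit 4503599895834624) (nat_lit 0x10408131a) (nat_lit 0x1) (nat_lit 0x11b1d0007191c) (nat_lit 0x10000009c000000ae0000009d) []))) (.leaf (Fact.mk (nat_lit 18014399314829328) (nat_lit 0x11c00081d041c0305) (nat_lit 0x1020716080305) (nat_lit 0x11302190606) (nat_lit 0x10000006a000000040000000f0000006e00000006000000680000000600000011) []))))) (.node (.node (.node (.node (.leaf (Fact.mk (nat_lit 12305) (nat_lit 0x108) (nat_lit 0x107) (nat_lit 0x1) (nat_lit 0x1) [])) (.leaf (Fact.mk (nat_lit 9007200328540176) (nat_lit 0x1080305) (nat_lit 0x11b08141b140508) (nat_lit 0x100020407030606) (nat_lit 0x10000005a00000002000000060000001100000062000000040000000d) []))) (.leaf (Fact.mk (nat_lit 4503600701136912) (nat_lit 0x10002160b05) (nat_lit 0x11d0004071d0b05) (nat_lit 0x100040816050c0f) (nat_lit 0x100000046) []))) (.node (.node (.leaf (Fact.mk (nat_lit 268460048) (nat_lit 0x1) (nat_lit 0x10002) (nat_lit 0x1) (nat_lit 0x100000012) [])) (.leaf (Fact.mk (nat_lit 9007199791640576) (nat_lit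 0x11b1302151d19) (nat_lit 0x1) (nat_lit 0x11b1d021a131b1a) (nat_lit 0x100000056000000a3000000a6000000a400000034000000a5000000a5000000a600000057000000a2) []))) (.leaf (Fact.mk (nat_lit 18014399314821136) (nat_lit 0x10705) (nat_lit 0x1000706) (nat_lit 0x102041607) (nat_lit 0x10000004000000002000000080000003c00000009) [])))) (.node (.node (.node (.leaf (Fact.mk (nat_lit 8) (nat_lit 0x102) (nat_lit 0x1) (nat_lit 0x102) (nat_lit 0x1) [])) (.leaf (Fact.mk (nat_lit 18014399583248400) (nat_lit 0x102040713050c05) (nat_lit 0x11d08190714050f16) (nat_lit 0x11d16141d0705) (nat_lit 0x100000096) []))) (.leaf (Fact.mk (nat_lit 13510799419023376) (nat_lit 0x11c1d00151c040608) (nat_lit 0x10208160b05) (nat_lit 0x10007160b1608) (nat_lit 0x10000003a00000002000000220000003000000002000000080000002300000036000000020000000800000057) []))) (.node (.node (.leaf (Fact.mk (nat_lit 13510799150546964) (nat_lit 0x116070305) (nat_lit 0x1) (nat_lit 0x1) (nat_lit 0x1) [])) (.leaf (Fact.mk (nat_lit 4503599895834624)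 (nat_lit 0x11d) (nat_lit 0x1) (nat_lit 0x11315131c16) (nat_lit 0x100000017000000b000000027000000b3000000b6) []))) (.leaf (Fact.mk (nat_lit 13510799687438336) (nat_lit 0x11d02040814160b05) (nat_lit 0x10816080505) (nat_lit 0x102071608031605) (nat_lit 0x10000005e000000020000000600000010000000350000005600000076) [])))))) (.node (.node (.node (.node (.node (.leaf (Fact.mk (nat_lit 4113) (nat_lit 0x102) (nat_lit 0x102) (nat_lit 0x1) (nat_lit 0x1) [])) (.leaf (Fact.mk (nat_lit 13510799955902480) (nat_lit 0x11d020416050c05) (nat_lit 0x11b081a15130b05) (nat_lit 0x11c1d041c0007031608) (nat_lit 0x10000003a000000020000000a0000002200000026000000230000003c000000020000000a0000007b0000007b0000007b0000007200000010) []))) (.leaf (Fact.mk (nat_lit 8) (nat_lit 0x11c15141a1a0b05) (nat_lit 0x1) (nat_lit 0x11c15141a1a0b05) (nat_lit 0x1) []))) (.node (.node (.leaf (Fact.mk (nat_lit 8) (nat_lit 0x104071608) (nat_lit 0x1) (nat_lit 0x104071608) (nat_lit 0x1) [])) (.leaf (Fact.mk (nat_lit 9007199791640576)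 (nat_lit 0x11c1d02041c08) (nat_lit 0x1) (nat_lit 0x11c1d02190815) (nat_lit 0x1000000a200000034000000a2000000350000003500000057000000a2) []))) (.leaf (Fact.mk (nat_lit 13510799687467024) (nat_lit 0x107160b05) (nat_lit 0x1141d16140b05) (nat_lit 0x10204160706) (nat_lit 0x10000003a00000002000000080000001a000000220000002e000000220000003c00000008) [])))) (.node (.node (.node (.leaf (Fact.mk (nat_lit 8) (nat_lit 0x100) (nat_lit 0x1) (nat_lit 0x100) (nat_lit 0x1) [])) (.leaf (Fact.mk (nat_lit 18014399046389776) (nat_lit 0x11d071402) (nat_lit 0x11a07151b060d11) (nat_lit 0x1000408130306) (nat_lit 0x10000009200000035) []))) (.leaf (Fact.mk (nat_lit 9007199791632384) (nat_lit 0x102041303) (nat_lit 0x104) (nat_lit 0x1000403) (nat_lit 0x1000000320000000600000052) []))) (.node (.node (.leaf (Fact.mk (nat_lit 9007199791632384) (nat_lit 0x10007) (nat_lit 0x1) (nat_lit 0x10007) (nat_lit 0x100000032000000170000001b00000023000000270000002200000023000000270000001b000000320000000200000008) []))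 (.leaf (Fact.mk (nat_lit 4503600701132800) (nat_lit 0x1000606) (nat_lit 0x11b1d07131c16190c0f0b) (nat_lit 0x11d02081d0414060c) (nat_lit 0x10000009c0000004600000002000000060000001a000000b300000022000000260000009c0000007c) []))) (.leaf (Fact.mk (nat_lit 9007200060088336) (nat_lit 0x11d02040814190b05) (nat_lit 0x10002160b05) (nat_lit 0x10208160706) (nat_lit 0x100000032000000080000001a0000002e0000000200000009000000230000003c00000002) []))))) (.node (.node (.node (.node (.leaf (Fact.mk (nat_lit 21) (nat_lit 0x1000407) (nat_lit 0x1000408) (nat_lit 0x1) (nat_lit 0x1000000090000000700000003) [])) (.leaf (Fact.mk (nat_lit 18014399314812944) (nat_lit 0x11b001a07131c0b05) (nat_lit 0x102141a07050c08) (nat_lit 0x1141d08140b05) (nat_lit 0x10000008a) []))) (.leaf (Fact.mk (nat_lit 9007200328507408) (nat_lit 0x10006) (nat_lit 0x1000205) (nat_lit 0x102041607) (nat_lit 0x10000004a) []))) (.node (.node (.leaf (Fact.mk (nat_lit 8) (nat_lit 0x106) (nat_lit 0x1) (nat_lit 0x106) (nat_lit 0x1) []))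 (.leaf (Fact.mk (nat_lit 9007199791640576) (nat_lit 0x1021a1d1a) (nat_lit 0x1) (nat_lit 0x11c141b1519) (nat_lit 0x1000000a5000000a9000000ab) []))) (.leaf (Fact.mk (nat_lit 18014399314833424) (nat_lit 0x10204140f) (nat_lit 0x104140f) (nat_lit 0x102040716070508) (nat_lit 0x1000000400000000600000023000000260000002200000042000000060000006000000006) [])))) (.node (.node (.node (.leaf (Fact.mk (nat_lit 8) (nat_lit 0x104) (nat_lit 0x1) (nat_lit 0x104) (nat_lit 0x1) [])) (.leaf (Fact.mk (nat_lit 4503600701140992) (nat_lit 0x1) (nat_lit 0x11c15140219031603) (nat_lit 0x11b020713151a060c0f) (nat_lit 0x10000009a) []))) (.leaf (Fact.mk (nat_lit 9007200060080144) (nat_lit 0x105) (nat_lit 0x106) (nat_lit 0x10816) (nat_lit 0x1000000320000003c) []))) (.node (.node (.leaf (Fact.mk (nat_lit 4503600432701456) (nat_lit 0x1) (nat_lit 0x104130305) (nat_lit 0x10816) (nat_lit 0x10000003a) [])) (.leaf (Fact.mk (nat_lit 65539) (nat_lit 0x1) (nat_lit 0x1) (nat_lit 0x1) (nat_lit 0x100000028000000b100000012000000ba)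 []))) (.leaf (Fact.mk (nat_lit 18014399583277072) (nat_lit 0x10508) (nat_lit 0x1000606) (nat_lit 0x100081608) (nat_lit 0x10000004a0000000200000004000000340000004c0000000200000008) []))))))) (.node (.node (.node (.node (.node (.node (.leaf (Fact.mk (nat_lit 17) (nat_lit 0x100) (nat_lit 0x100) (nat_lit 0x1) (nat_lit 0x1) [])) (.leaf (Fact.mk (nat_lit 18014399583248400) (nat_lit 0x11c1d021908191c0b05) (nat_lit 0x107190b05) (nat_lit 0x1160608) (nat_lit 0x100000080) []))) (.leaf (Fact.mk (nat_lit 4503600701136912) (nat_lit 0x1) (nat_lit 0x10004130306) (nat_lit 0x102041607) (nat_lit 0x100000040) []))) (.node (.node (.leaf (Fact.mk (nat_lit 4503599895826432) (nat_lit 0x107) (nat_lit 0x1) (nat_lit 0x108) (nat_lit 0x100000012000000200000001200000008) [])) (.leaf (Fact.mk (nat_lit 9007199791640576) (nat_lit 0x11d02081a07060c03) (nat_lit 0x1) (nat_lit 0x11c1d081a081513060c) (nat_lit 0x1000000a00000007a000000a1) []))) (.leaf (Fact.mk (nat_lit 13510799955877904) (nat_lit 0x1140f) (nat_lit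 0x102041303) (nat_lit 0x1020716070606) (nat_lit 0x100000060) [])))) (.node (.node (.node (.leaf (Fact.mk (nat_lit 4503599627370516) (nat_lit 0x1) (nat_lit 0x1) (nat_lit 0x1) (nat_lit 0x1) [])) (.leaf (Fact.mk (nat_lit 18014399046377488) (nat_lit 0x11b081d0415) (nat_lit 0x11a07151b060d11) (nat_lit 0x104130306) (nat_lit 0x100000090) []))) (.leaf (Fact.mk (nat_lit 9007199523201040) (nat_lit 0x1140f) (nat_lit 0x102041303) (nat_lit 0x100140f) (nat_lit 0x100000050) []))) (.node (.node (.leaf (Fact.mk (nat_lit 9007199523176468) (nat_lit 0x103) (nat_lit 0x1) (nat_lit 0x1) (nat_lit 0x1) [])) (.leaf (Fact.mk (nat_lit 4503599895834624) (nat_lit 0x11c1d00071c1a) (nat_lit 0x1) (nat_lit 0x11c00191c1a08) (nat_lit 0x10000001f00000022000000b00000002700000023000000b0) []))) (.leaf (Fact.mk (nat_lit 13510799955877904) (nat_lit 0x1020716080305) (nat_lit 0x11b1d08141a1b1d0305) (nat_lit 0x10002160505) (nat_lit 0x100000070) []))))) (.node (.node (.node (.node (.leaf (Fact.mk (nat_lit 16401) (nat_lit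 0x104071608) (nat_lit 0x104071608) (nat_lit 0x1) (nat_lit 0x1) [])) (.leaf (Fact.mk (nat_lit 13510799955914768) (nat_lit 0x102141607050c08) (nat_lit 0x11b001a07131c0b05) (nat_lit 0x11d04141619060c07) (nat_lit 0x10000003a000000090000000a0000001e0000002300000026000000220000003c000000080000000a0000007a0000007a0000007a0000007a000000860000000c00000011) []))) (.leaf (Fact.mk (nat_lit 18014399046385680) (nat_lit 0x105) (nat_lit 0x10006) (nat_lit 0x102040816) (nat_lit 0x1000000400000000200000036) []))) (.node (.node (.leaf (Fact.mk (nat_lit 4503599895834624) (nat_lit 0x10204) (nat_lit 0x1) (nat_lit 0x10204) (nat_lit 0x10000001b0000001f) [])) (.leaf (Fact.mk (nat_lit 9007199791640576) (nat_lit 0x11c0015160719) (nat_lit 0x1) (nat_lit 0x11c0207161b) (nat_lit 0x1000000a7000000a9000000a9) []))) (.leaf (Fact.mk (nat_lit 18014399314821136) (nat_lit 0x1000716070606) (nat_lit 0x102040716070508) (nat_lit 0x11d0207160814) (nat_lit 0x10000004a000000110000000f000000350000005c000000020000000a00000008)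 [])))) (.node (.node (.node (.leaf (Fact.mk (nat_lit 4503599895826432) (nat_lit 0x102) (nat_lit 0x1) (nat_lit 0x102) (nat_lit 0x100000012000000180000001200000004) [])) (.leaf (Fact.mk (nat_lit 4503600701132800) (nat_lit 0x11d08190714050f16) (nat_lit 0x11b001a1b04030616) (nat_lit 0x11b020713151a060c0f) (nat_lit 0x100000048000000090000001100000098) []))) (.leaf (Fact.mk (nat_lit 9007200060071952) (nat_lit 0x10208160b05) (nat_lit 0x11c1d151c040608) (nat_lit 0x100081608060b) (nat_lit 0x100000058) []))) (.node (.node (.leaf (Fact.mk (nat_lit 13510799150583824) (nat_lit 0x10305) (nat_lit 0x1) (nat_lit 0x11607) (nat_lit 0x100000038000000270000002300000027) [])) (.leaf (Fact.mk (nat_lit 8) (nat_lit 0x11b1d0007191c) (nat_lit 0x1) (nat_lit 0x11b1d0007191c) (nat_lit 0x1) []))) (.leaf (Fact.mk (nat_lit 13510799687446528) (nat_lit 0x11d0207130c0c) (nat_lit 0x1) (nat_lit 0x102071608031605) (nat_lit 0x100000078) [])))))) (.node (.node (.node (.node (.node (.leaf (Fact.mk (nat_lit 8209)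 (nat_lit 0x104) (nat_lit 0x104) (nat_lit 0x1) (nat_lit 0x1) [])) (.leaf (Fact.mk (nat_lit 13510799955886096) (nat_lit 0x1020305) (nat_lit 0x100041d081d0c0c) (nat_lit 0x11c15141a1a0505) (nat_lit 0x10000006400000006000000110000007e) []))) (.leaf (Fact.mk (nat_lit 18014398777958416) (nat_lit 0x11c041b071d0b05) (nat_lit 0x10002160b05) (nat_lit 0x11b1d00041b0408050f16) (nat_lit 0x100000040000000080000001a00000022000000120000004400000028000000100000000a) []))) (.node (.node (.leaf (Fact.mk (nat_lit 4503599895826432) (nat_lit 0x104071608) (nat_lit 0x1) (nat_lit 0x104071608) (nat_lit 0x10000001200000024000000120000000a) [])) (.leaf (Fact.mk (nat_lit 9007199791640576) (nat_lit 0x11b1d07161b1d07) (nat_lit 0x1) (nat_lit 0x11c16081b) (nat_lit 0x100000056000000a300000056000000a200000034000000a400000034000000a500000056) []))) (.leaf (Fact.mk (nat_lit 13510799687471120) (nat_lit 0x10505) (nat_lit 0x1000608) (nat_lit 0x1001608) (nat_lit 0x10000005e0000000200000009000000350000005c) []))))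 (.node (.node (.node (.leaf (Fact.mk (nat_lit 4503599895826432) (nat_lit 0x100) (nat_lit 0x1) (nat_lit 0x100) (nat_lit 0x100000012000000140000001200000002) [])) (.leaf (Fact.mk (nat_lit 18014399583264784) (nat_lit 0x11b02141b1a050f16) (nat_lit 0x102040713050c05) (nat_lit 0x11b04161c140608) (nat_lit 0x10000008e000000080000007b0000007b0000007b00000066000000080000000e0000007a0000007a00000084000000100000000d) []))) (.leaf (Fact.mk (nat_lit 9007199791640576) (nat_lit 0x102040f) (nat_lit 0x1) (nat_lit 0x1000403) (nat_lit 0x100000054) []))) (.node (.node (.leaf (Fact.mk (nat_lit 4503600164266000) (nat_lit 0x1) (nat_lit 0x1041303) (nat_lit 0x1) (nat_lit 0x100000032) [])) (.leaf (Fact.mk (nat_lit 4503599895834624) (nat_lit 0x11b041c000813) (nat_lit 0x1) (nat_lit 0x11b1d131c0719) (nat_lit 0x1000000b40000009d) []))) (.leaf (Fact.mk (nat_lit 13510799419006992) (nat_lit 0x10002160b05) (nat_lit 0x11d02040814160b05) (nat_lit 0x1021605) (nat_lit 0x100000074) []))))) (.node (.node (.node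 (.node (.leaf (Fact.mk (nat_lit 21) (nat_lit 0x1001608) (nat_lit 0x100081608) (nat_lit 0x1) (nat_lit 0x10000000d0000000b) [])) (.leaf (Fact.mk (nat_lit 18014399314825232) (nat_lit 0x11d00081a1306) (nat_lit 0x102141a07050c08) (nat_lit 0x11b041c00070c0f) (nat_lit 0x10000008c0000007a0000007a0000007a) []))) (.leaf (Fact.mk (nat_lit 8) (nat_lit 0x1000403) (nat_lit 0x1) (nat_lit 0x1000403) (nat_lit 0x1) []))) (.node (.node (.leaf (Fact.mk (nat_lit 4503599895838736) (nat_lit 0x105) (nat_lit 0x106) (nat_lit 0x106) (nat_lit 0x1000000120000002c00000028) [])) (.leaf (Fact.mk (nat_lit 18014399583244288) (nat_lit 0x1141a1d160f16) (nat_lit 0x11a07151b060d11) (nat_lit 0x11c0714191b05) (nat_lit 0x10000009400000035000000a8000000340000005700000056000000a5000000ad0000009400000009) []))) (.leaf (Fact.mk (nat_lit 13510799955877904) (nat_lit 0x104140f) (nat_lit 0x1020f) (nat_lit 0x10204080606) (nat_lit 0x10000006c) [])))) (.node (.node (.node (.leaf (Fact.mk (nat_lit 4503599895826432) (nat_lit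 0x104) (nat_lit 0x1) (nat_lit 0x104) (nat_lit 0x1000000120000001c0000001200000006) [])) (.leaf (Fact.mk (nat_lit 9007200060067840) (nat_lit 0x102041303) (nat_lit 0x11c15141a1a) (nat_lit 0x11c001a131b040b) (nat_lit 0x100000032000000020000000c00000010000000260000009c00000062) []))) (.leaf (Fact.mk (nat_lit 13510799419006992) (nat_lit 0x106) (nat_lit 0x1000205) (nat_lit 0x11607) (nat_lit 0x10000005c) []))) (.node (.node (.leaf (Fact.mk (nat_lit 18014398777917460) (nat_lit 0x1081302190306) (nat_lit 0x1) (nat_lit 0x1) (nat_lit 0x1) [])) (.leaf (Fact.mk (nat_lit 8) (nat_lit 0x11315131c16) (nat_lit 0x1) (nat_lit 0x11315131c16) (nat_lit 0x1) []))) (.leaf (Fact.mk (nat_lit 13510799955898384) (nat_lit 0x10203) (nat_lit 0x100140f) (nat_lit 0x10716070606) (nat_lit 0x10000003a000000020000002200000026000000230000002a0000002e000000060000004200000004) []))))))))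
noncomputable def rules : Tr Rule := (.node (.node (.node (.node (.node (.leaf ⟨0,1,[],[0],[(0,[0])],3,false,1,false⟩) (.leaf ⟨2,0,[],[27,29,0,7,25,28],[(0,[25,20,7,4]),(0,[2,0])],0,false,0,true⟩)) (.leaf ⟨0,1,[],[6],[(0,[2,0,6]),(0,[2,0,0,2,6])],11,false,4,true⟩)) (.node (.leaf ⟨0,1,[],[5,5,4,6,6],[(0,[5,5,4,6,6])],10,false,4,false⟩) (.leaf ⟨0,1,[],[5,5,3,6,6],[(0,[2,0,5,5,3,6,6]),(0,[2,0,5,5,3,6,6]),(0,[2,0,5,5,3,0,2,3,2,3,5,4,3,2,3,4,6,6,6,4,3,2,3,4,5,5,6,6])],13,true,24,true⟩))) (.node (.node (.leaf ⟨0,1,[],[4],[(0,[4])],5,false,1,false⟩) (.leaf ⟨0,1,[],[5,5,3,0,2,3,2,3,5,4,3,2,3,4,6,6,6,4,3,2,3,4,5,5,6,6],[(0,[2,0,5,5,3,6,6]),(0,[2,0,5,5,3,6,6]),(0,[2,0,5,5,3,6,6])],13,true,42,true⟩)) (.node (.leaf ⟨0,1,[],[],[(1,[0,2])],2,true,3,false⟩) (.leaf ⟨0,1,[],[0,2,6],[(0,[2,0,6]),(0,[2,0,6])],11,false,0,true⟩)))) (.node (.node (.node (.node (.leaf ⟨0,1,[],[2],[(0,[2])],4,false,1,false⟩) (.leaf ⟨2,0,[],[19,21,19,28,22],[(0,[29]),(0,[2,0])],0,false,0,true⟩)) (.leaf ⟨0,1,[],[],[(0,[])],1,false,0,false⟩))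 (.node (.leaf ⟨0,0,[],[],[(1,[]),(0,[])],1,false,1,false⟩) (.leaf ⟨0,1,[],[6],[(0,[2,0,0,2,6]),(0,[2,0,6])],11,false,6,true⟩))) (.node (.node (.leaf ⟨0,1,[],[7],[(0,[7])],9,false,1,false⟩) (.leaf ⟨0,1,[],[3],[(0,[3,4]),(0,[2,0,3]),(0,[3,4])],6,false,3,true⟩)) (.node (.leaf ⟨0,0,[],[],[],0,false,0,false⟩) (.leaf ⟨0,1,[],[5,5,3,6,6],[(0,[2,0,5,5,3,0,2,3,2,3,5,4,3,2,3,4,6,6,6,4,3,2,3,4,5,5,6,6]),(0,[2,0,5,5,3,6,6]),(0,[2,0,5,5,3,6,6])],13,true,36,true⟩)))))
noncomputable def ndT : ℕ := nat_lit 0x1f00001c000019000009000000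

end Cfsg.Agent.DC.Tha
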