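import Cfsg.Agent.Lib.DC.Tha.D0
import Cfsg.Agent.Lib.Grp.TD4.Defs

set_option autoImplicit false
set_option maxRecDepth 100000
set_option Elab.async false
set_option linter.unusedSectionVars false

namespace Cfsg.Agent.DC.Tha
open Cfsg.Agent.CG

noncomputable def nd : ℕ → ℕ := (fun i => look 0xffffff ndT (Nat.mul 24 i))
noncomputable def ivT : ℕ := nat_lit 0x3050207040906080b0d0a0f0c110e13101512171419161b181a1d1c1f1e
noncomputable abbrev iv : ℕ → ℕ := ivX ivT 30
noncomputable def rels : List (List ℕ × List ℤ) := [([256,256,2,0], []),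
  ([257,0,256,0], []),
  ([257,2,256,2], []),
  ([257,4,256,4], []),
  ([3,4,257,3,256,3,4,257,3,256], []),
  ([257,1,2,0,1,256,1,0,2,1,4], []),
  ([3,257,3,1,2,0,1,3,256,3,1,0,2,1,2,4,3,257,3,1,2,0,1,4,257], []),
  ([257,7,256,7], []),
  ([4,6,6,257,5,5,4,6,6,256,5,5], []),
  ([0,2,6,257,6,257,6,257], []),
  ([0,2,6,257,5,256,6,257,5,256,6,257,5,256,6,257,5,256], []),
  ([3,6,6,256,5,5,3,6,6,256,5,5,3,6,6,256,5,5,3,6,6,256,5,5,6,6,4,3,2,3,4,5,5,5,4,3,2,3,4,6,3,2,3,2,0], [])]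
noncomputable def lrels : List (List ℕ) := []
noncomputable abbrev rels0 : List (List ℕ × List ℤ) := ([], []) :: ([256, 257], []) :: rels
noncomputable def idx : List (ℕ × ℕ) := [(257, 2)]
noncomputable def xs : List (ℕ × List ℕ × List ℤ) := [(94, [27,29,0,7,25,28,256,25,20,7,4,257], []),
  (96, [19,21,19,28,22,256,29,257], [])]
noncomputable def ys : List (List ℕ × List ℤ) := [([27,29,0,7,25,28,256,25,20,7,4,257], []),
  ([19,21,19,28,22,256,29,257], [])]
noncomputable def ws : List (List ℕ) := [[]]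

end Cfsg.Agent.DC.Tha
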